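import Groth.Agent.Lib.KSix19.TensorStalk
import Groth.Agent.Lib.OX.KFlat
import Groth.Agent.Lib.OX.Exact
import Groth.Agent.Lib.DTen.Values

/-! # K-flatness is tested on stalks -/

set_option autoImplicit false
set_option maxHeartbeats 800000
universe u

open CategoryTheory CategoryTheory.Limits AlgebraicGeometry HomologicalComplex Opposite

attribute [local instance] HasDerivedCategory.standard

noncomputable section

namespace GrothLib.KFlatStalk22

variable {X : Scheme.{u}} (x : X)

theorem preservesFiniteLimits_sky : PreservesFiniteLimits (OX.sky x) :=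
  haveI : PreservesLimitsOfSize.{0, 0} (OX.sky x) := (OX.stalkSkyAdj x).rightAdjoint_preservesLimits
  PreservesLimitsOfSize.preservesFiniteLimits.{0, 0} _

theorem sky_app_surjective {M N : ModuleCat.{u} (X.presheaf.stalk x)} (g : M ⟶ N) (hg : Function.Surjective g.hom)
    (U : X.Opens) : Function.Surjective (((OX.sky x).map g).app U) := fun s =>
  ⟨fun h => (hg ((show OX.SkySec x N (op U) from s) h)).choose,
    funext fun h => (hg ((show OX.SkySec x N (op U) from s) h)).choose_spec⟩

theorem preservesHomology_sky [(OX.sky x).Additive] : (OX.sky x).PreservesHomology := by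
  haveI := preservesFiniteLimits_sky x
  haveI : (OX.sky x).PreservesEpimorphisms := ⟨fun {M N} g hg => by
    refine (OX.epi_iff _).2 fun y => (ModuleCat.epi_iff_surjective _).2 fun e => ?_
    obtain ⟨U, hU, s, rfl⟩ := OX.germ_exists ((OX.sky x).obj N).val e
    obtain ⟨t, rfl⟩ := sky_app_surjective x g ((ModuleCat.epi_iff_surjective g).1 hg) U s
    exact ⟨OX.germ ((OX.sky x).obj M).val U hU t, OX.stalkPre_map_germ (DCoh.toP.map ((OX.sky x).map g)) U hU t⟩⟩
  exact Functor.preservesHomology_of_preservesEpis_and_kernels _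

theorem counit_germ (N : ModuleCat.{u} (X.presheaf.stalk x)) (U : X.Opens) (hU : x ∈ U)
    (s : OX.SkySec x N (op U)) :
    ((OX.stalkSkyAdj x).counit.app N).hom (OX.germ ((OX.sky x).obj N).val U hU s) = s ⟨hU⟩ := by
  rw [← (OX.stalkSkyAdj x).homEquiv_symm_id]
  simp only [OX.stalkSkyAdj, OX.stalkSkyPreAdj, Adjunction.mkOfHomEquiv_homEquiv]
  change OX.stalkDesc (P := OX.skyPreObj x N) (𝟙 (OX.skyPreObj x N)) _ = _
  exact OX.stalkDesc_germ (P := OX.skyPreObj x N) (N := N) (𝟙 _) U hU s

theorem bijective_counit (N : ModuleCat.{u} (X.presheaf.stalk x)) :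
    Function.Bijective ((OX.stalkSkyAdj x).counit.app N).hom := by
  refine ⟨(injective_iff_map_eq_zero _).2 fun e he => ?_, fun n => ?_⟩
  · obtain ⟨U, hU, s, rfl⟩ := OX.germ_exists ((OX.sky x).obj N).val e
    have hs : (show OX.SkySec x N (op U) from s) ⟨hU⟩ = 0 :=
      (counit_germ x N U hU s).symm.trans he
    have : (show OX.SkySec x N (op U) from s) = 0 := funext fun h => hs
    exact (congrArg _ this).trans (map_zero _)
  · exact ⟨OX.germ ((OX.sky x).obj N).val ⊤ trivial (fun _ => n : OX.SkySec x N (op ⊤)),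
      counit_germ x N ⊤ trivial _⟩

/-- **K-flatness is a stalkwise property.** -/
theorem isKFlat_iff_stalk (F : CochainComplex X.Modules ℤ) :
    DCoh.IsKFlat F ↔ ∀ x : X, DRing.IsKFlat (X.presheaf.stalk x) ((KSix19.stalkCx x).obj F) := by
  refine ⟨fun hF x => ?_, fun h => ?_⟩
  · rw [DT.isKFlat_iff, KF.isKFlat_iff]
    intro M hM
    haveI : (OX.sky x).Additive := (OX.stalkSkyAdj x).right_adjoint_additive
    haveI := preservesHomology_sky x
    let L : CochainComplex X.Modules ℤ := ((OX.sky x).mapHomologicalComplex (ComplexShape.up ℤ)).obj M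
    have hL : L.Acyclic := fun i => (hM i).map (OX.sky x)
    have hT : ((KSix19.stalkCx x).obj (((DCoh.tensorCx (X := X)).obj L).obj F)).Acyclic :=
      fun i => ((OX.isKFlat_iff F).1 hF L hL i).map (OX.stalk x)
    haveI : ∀ N, IsIso ((OX.stalkSkyAdj x).counit.app N) := fun N =>
      (ConcreteCategory.isIso_iff_bijective _).2 (bijective_counit x N)
    haveI : IsIso (OX.stalkSkyAdj x).counit := NatIso.isIso_of_isIso_app _
    let e : (KSix19.stalkCx x).obj L ≅ M :=
      HomologicalComplex.Hom.isoOfComponents (fun i => (asIso (OX.stalkSkyAdj x).counit).app (M.X i))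
        (fun i j _ => ((OX.stalkSkyAdj x).counit.naturality (M.d i j)).symm)
    exact DerCat.acyclic_of_iso
      (KSix19.stalkTensorCxIso x L F ≪≫ ((KF.tensorCx (R := X.presheaf.stalk x)).mapIso e).app _) hT
  · refine (OX.isKFlat_iff F).2 fun L hL i => ?_
    refine (OX.exact_iff _).2 fun x => ?_
    exact DerCat.acyclic_of_iso (KSix19.stalkTensorCxIso x L F).symm
      ((KF.isKFlat_iff _).1 ((DT.isKFlat_iff _).1 (h x)) _ fun j => (hL j).map (OX.stalk x)) i

end GrothLib.KFlatStalk22
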